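import Cfsg.Agent.H830.B57.Defs
import Cfsg.Agent.H893.PPow
import Cfsg.Agent.Lib.Involves

/-!
# Bases of primitive groups with a nonabelian minimal normal subgroup (helper637, task 4661, for S5717)

`nonaff_of` : the statement `nonaff` from the product case and the diagonal case.
-/

set_option autoImplicit false
set_option linter.unusedVariables false

open Subgroup

namespace Cfsg.Agent.H637.B57

open Cfsg.Agent.H830.B57 Cfsg.Agent

theorem BaseLE.mono {G Ω : Type*} [Group G] [MulAction G Ω] {a b : ℕ} (h : BaseLE G Ω a) (hab : a ≤ b) :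
    BaseLE G Ω b := by
  obtain ⟨B, hB, h1⟩ := h
  exact ⟨B, hB.trans hab, h1⟩

/-- a section of a subgroup is a section -/
theorem involves_of_subgroup {A G : Type*} [Group A] [Group G] {H : Subgroup G} (h : Cfsg.Involves A H) :
    Cfsg.Involves A G := by
  have h1 : Lib.Involves.Involves H A := Lib.Involves.involves_iff.2 h
  exact Lib.Involves.involves_iff.1 (Lib.Involves.of_subgroup h1)

/-- the product case -/
def ProdCase : Prop := ∀ (G Ω : Type) [Group G] [Finite G] [MulAction G Ω] [FaithfulSMul G Ω] [Finite Ω]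
    (_ : MulAction.IsPreprimitive G Ω) (N : Subgroup G) [N.Normal]
    (m : ℕ) (T : Fin m → Subgroup G) (e : N ≃* (∀ i, T i)) (_ : H893.Fac N m T e)
    (ω : Ω) (_ : ¬ N ≤ MulAction.stabilizer G ω)
    (_ : ∀ n : N, (n : G) ∈ MulAction.stabilizer G ω ↔
      ∀ i, ((e n i : T i) : G) ∈ MulAction.stabilizer G ω) (k b : ℕ) (_ : ∀ i, TBase (T i) k)
    (_ : ∀ (L Δ : Type) [Group L] [Finite L] [MulAction L Δ] [Finite Δ] (f : L →* G),
      Function.Injective f → MulAction.IsPreprimitive L Δ → Nontrivial Δ →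
      Nat.card Δ < Nat.card Ω → BaseLE L Δ b),
    BaseLE G Ω (k + 1 + Nat.clog 2 (2 * b + 2))

/-- the diagonal case -/
def DiagCase : Prop := ∀ (G Ω : Type) [Group G] [Finite G] [MulAction G Ω] [FaithfulSMul G Ω] [Finite Ω]
    (_ : MulAction.IsPreprimitive G Ω) (N : Subgroup G) [N.Normal]
    (m : ℕ) (T : Fin m → Subgroup G) (e : N ≃* (∀ i, T i)) (_ : H893.Fac N m T e)
    (ω : Ω) (_ : ¬ N ≤ MulAction.stabilizer G ω) (c : Fin m → Fin m) (_ : ∀ i, c (c i) = c i)
    (_ : ∀ i, ∃ j, j ≠ i ∧ c j = c i)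
    (_ : ∀ n : N, (n : G) ∈ MulAction.stabilizer G ω → (∀ i, e n (c i) = 1) → n = 1)
    (_ : ∀ x : ∀ i, T i, ∃ n : N, (n : G) ∈ MulAction.stabilizer G ω ∧ ∀ i, e n (c i) = x (c i))
    (_ : ∀ i, ∃ u v : T i, closure {u, v} = ⊤) (b : ℕ)
    (_ : ∀ (L Δ : Type) [Group L] [Finite L] [MulAction L Δ] [Finite Δ] (f : L →* G),
      Function.Injective f → MulAction.IsPreprimitive L Δ → Nontrivial Δ →
      Nat.card Δ < Nat.card Ω → BaseLE L Δ b),
    BaseLE G Ω (4 + 2 * Nat.clog 2 (2 * b + 2))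

/-- B3: primitive groups with a nonabelian minimal normal subgroup -/
theorem nonaff_of (hprod : ProdCase) (hdiag : DiagCase) (d k b : ℕ) (hd : 5 ≤ d)
    (h2 : ∀ (T : Type) [Group T] [Finite T] [IsSimpleGroup T], ∃ u v : T, closure {u, v} = ⊤)
    (hk : ∀ (T : Type) [Group T] [Finite T] [IsSimpleGroup T], (∃ x y : T, x * y ≠ y * x) →
      ¬ Cfsg.Involves (alternatingGroup (Fin d)) T → TBase T k)
    (G Ω : Type) [Group G] [Finite G] [MulAction G Ω] [FaithfulSMul G Ω] [Finite Ω]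
    (hp : MulAction.IsPreprimitive G Ω) (hG : ¬ Cfsg.Involves (alternatingGroup (Fin d)) G)
    (N : Subgroup G) [N.Normal] (hmin : ∀ M : Subgroup G, M.Normal → M ≤ N → M = ⊥ ∨ M = N)
    (hna : ¬ ∀ x ∈ N, ∀ y ∈ N, Commute x y)
    (ih : ∀ (L Δ : Type) [Group L] [Finite L] [MulAction L Δ] [Finite Δ] (f : L →* G),
      Function.Injective f → MulAction.IsPreprimitive L Δ → Nontrivial Δ →
      Nat.card Δ < Nat.card Ω → BaseLE L Δ b) :
    BaseLE G Ω (k + 4 + 2 * Nat.clog 2 (2 * b + 2)) := by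
  have hN : N ≠ ⊥ := by
    rintro rfl
    apply hna
    intro x hx y hy
    rw [mem_bot] at hx hy
    rw [hx, hy]
  obtain ⟨htr, hKN, hNK⟩ := H893.prim_normal hp N hN
  have hne : Nonempty Ω := by
    by_contra h
    rw [not_nonempty_iff] at h
    apply hN
    rw [eq_bot_iff]
    intro x _
    rw [mem_bot]
    exact FaithfulSMul.eq_of_smul_eq_smul fun a : Ω => (h.false a).elim
  obtain ⟨ω⟩ := hne
  have hnt : Nontrivial Ω := by
    by_contra h
    rw [not_nontrivial_iff_subsingleton] at h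
    exact hNK ω fun x _ => Subsingleton.elim _ _
  obtain ⟨m, T, e, hf⟩ := H893.exists_fac N hmin hna
  have hTinv : ∀ i, ¬ Cfsg.Involves (alternatingGroup (Fin d)) (T i) := fun i h =>
    hG (involves_of_subgroup h)
  have hT : ∀ i, TBase (T i) k := fun i => by
    have := hf.simple i
    exact hk (T i) (hf.nonab i) (hTinv i)
  have h2' : ∀ i, ∃ u v : T i, closure {u, v} = ⊤ := fun i => by
    have := hf.simple i
    exact h2 (T i)
  rcases hf.scott (MulAction.stabilizer G ω) (hKN ω) (hNK ω)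
    (fun X hX hKX hinv => H893.prim_max_inv hp N ω X hX hKX hinv) with h | ⟨c, hc, hc2, hinj, hsur⟩
  · exact BaseLE.mono (hprod G Ω hp N m T e hf ω (hNK ω) h k b hT ih) (by omega)
  · exact BaseLE.mono (hdiag G Ω hp N m T e hf ω (hNK ω) c hc hc2 hinj hsur h2' b ih) (by omega)

end Cfsg.Agent.H637.B57
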